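import Mathlib
import Cfsg.Agent.Core.MinimalNormal

/-!
Groups isospectral to a group with a nontrivial solvable normal subgroup: `V ⋊ G` is isospectral to
`G` for `V` a normal elementary abelian subgroup, and iterating gives arbitrarily large ones.
-/

set_option autoImplicit false

namespace Cfsg.Agent.Isospectral

theorem range_orderOf_semidirect {G : Type*} [Group G] [Finite G] (V : Subgroup G) [V.Normal]
    (p : ℕ) (hp : p.Prime) (hcomm : ∀ x y : V, x * y = y * x) (hexp : ∀ x : V, x ^ p = 1) :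
    Set.range (orderOf : V ⋊[MulAut.conjNormal] G → ℕ) = Set.range (orderOf : G → ℕ) := by
  apply Set.Subset.antisymm
  · rintro _ ⟨x, rfl⟩
    set m : V ⋊[MulAut.conjNormal] G →* G :=
      SemidirectProduct.lift V.subtype (MonoidHom.id G)
        (fun g => by ext v; simp [MulAut.conjNormal_apply]) with hm
    have hl : ∀ y : V ⋊[MulAut.conjNormal] G, m y = (y.left : G) * y.right := fun y => rfl
    set r : V ⋊[MulAut.conjNormal] G →* G := SemidirectProduct.rightHom with hr
    set k := orderOf (QuotientGroup.mk' V (r x))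
    have hinj : ∀ y, m y = 1 → r y = 1 → y = 1 := by
      intro y h1 h2
      have h2' : y.right = 1 := h2
      rw [hl, h2', mul_one] at h1
      exact SemidirectProduct.ext (Subtype.ext h1) h2'
    have hord : ∀ g : G, QuotientGroup.mk' V g = QuotientGroup.mk' V (r x) →
        orderOf g = k ∨ orderOf g = p * k := by
      intro g hg
      have h1 : k ∣ orderOf g := by
        have h := orderOf_map_dvd (QuotientGroup.mk' V) g
        rwa [hg] at h
      have h2 : g ^ k ∈ V := by
        rw [← QuotientGroup.eq_one_iff, ← QuotientGroup.mk'_apply, map_pow, hg]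
        exact pow_orderOf_eq_one _
      have h3 : orderOf g ∣ k * p := by
        apply orderOf_dvd_of_pow_eq_one
        rw [pow_mul]
        exact congrArg Subtype.val (hexp ⟨_, h2⟩)
      obtain ⟨c, hc⟩ := h1
      have hk : 0 < k := Nat.pos_of_ne_zero (by
        intro h0; rw [h0, zero_mul] at hc; exact (orderOf_pos g).ne' hc)
      rcases (Nat.dvd_prime hp).mp ((Nat.mul_dvd_mul_iff_left hk).mp (hc ▸ h3)) with rfl | rfl
      · left; rw [hc, mul_one]
      · right; rw [hc, mul_comm]
    have hx : orderOf x = Nat.lcm (orderOf (m x)) (orderOf (r x)) := by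
      refine Nat.dvd_antisymm ?_ (Nat.lcm_dvd (orderOf_map_dvd m x) (orderOf_map_dvd r x))
      apply orderOf_dvd_of_pow_eq_one
      refine hinj _ ?_ ?_
      · rw [map_pow]; exact orderOf_dvd_iff_pow_eq_one.mp (Nat.dvd_lcm_left _ _)
      · rw [map_pow]; exact orderOf_dvd_iff_pow_eq_one.mp (Nat.dvd_lcm_right _ _)
    have hmV : QuotientGroup.mk' V (m x) = QuotientGroup.mk' V (r x) := by
      rw [hl, map_mul, (QuotientGroup.eq_one_iff (x.left : G)).mpr x.left.2 |> fun h =>
        (show QuotientGroup.mk' V (x.left : G) = 1 from h), one_mul]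
      rfl
    rcases hord _ hmV with h1 | h1 <;> rcases hord _ rfl with h2 | h2
    · exact ⟨r x, by rw [hx, h1, h2, Nat.lcm_self]⟩
    · exact ⟨r x, by rw [hx, h1, h2, Nat.lcm_eq_right (dvd_mul_left k p)]⟩
    · exact ⟨m x, by rw [hx, h1, h2, Nat.lcm_eq_left (dvd_mul_left k p)]⟩
    · exact ⟨r x, by rw [hx, h1, h2, Nat.lcm_self]⟩
  · rintro _ ⟨g, rfl⟩
    exact ⟨SemidirectProduct.inr g,
      orderOf_injective _ SemidirectProduct.inr_injective g⟩

/-- `G` has a nontrivial elementary abelian normal subgroup -/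
def HasElemNormal (G : Type*) [Group G] : Prop :=
  ∃ (p : ℕ) (V : Subgroup G), p.Prime ∧ V.Normal ∧ V ≠ ⊥ ∧
    (∀ x ∈ V, ∀ y ∈ V, x * y = y * x) ∧ ∀ x ∈ V, x ^ p = 1

theorem HasElemNormal.of_mulEquiv {G H : Type*} [Group G] [Group H] (e : G ≃* H)
    (h : HasElemNormal G) : HasElemNormal H := by
  obtain ⟨p, V, hp, hn, hne, hc, hx⟩ := h
  refine ⟨p, V.map e.toMonoidHom, hp, hn.map _ e.surjective, ?_, ?_, ?_⟩
  · rwa [Ne, Subgroup.map_eq_bot_iff_of_injective _ e.injective]
  · rintro _ ⟨x, hx', rfl⟩ _ ⟨y, hy', rfl⟩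
    rw [← map_mul, hc x hx' y hy', map_mul]
  · rintro _ ⟨x, hx', rfl⟩
    rw [← map_pow, hx x hx', map_one]

theorem hasElemNormal_of_solvable {G : Type*} [Group G] [Finite G] {K : Subgroup G} [K.Normal]
    (hK : K ≠ ⊥) (hs : Group.IsSolvable K) : HasElemNormal G := by
  obtain ⟨M, hMK, hM⟩ := Core.exists_isMinNormal_le hK
  have : Group.IsSolvable M := Core.isSolvable_mono hs hMK
  have hc := hM.isMulCommutative
  obtain ⟨p, hp, hx⟩ := hM.exists_prime_pow_eq_one
  exact ⟨p, M, hp, hM.normal, hM.ne_bot, fun x hx y hy =>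
    congrArg Subtype.val (hc.is_comm.comm (⟨x, hx⟩ : M) ⟨y, hy⟩), hx⟩

theorem range_orderOf_mulEquiv {G H : Type*} [Group G] [Group H] (e : G ≃* H) :
    Set.range (orderOf : G → ℕ) = Set.range (orderOf : H → ℕ) := by
  ext n
  exact ⟨fun ⟨g, hg⟩ => ⟨e g, by rw [e.orderOf_eq, hg]⟩,
    fun ⟨h, hh⟩ => ⟨e.symm h, by rw [e.symm.orderOf_eq, hh]⟩⟩

theorem exists_large {G : Type*} [Group G] [Finite G] (hG : HasElemNormal G) (N : ℕ) :
    ∃ (H : Type) (_ : Group H) (_ : Fintype H), N < Fintype.card H ∧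
      Set.range (orderOf : H → ℕ) = Set.range (orderOf : G → ℕ) := by
  suffices ∃ (H : Type) (_ : Group H) (_ : Finite H), N < Nat.card H ∧ HasElemNormal H ∧
      Set.range (orderOf : H → ℕ) = Set.range (orderOf : G → ℕ) by
    obtain ⟨H, _, _, h1, -, h2⟩ := this
    have := Fintype.ofFinite H
    exact ⟨H, inferInstance, inferInstance, by rwa [← Nat.card_eq_fintype_card], h2⟩
  induction N with
  | zero =>
    refine ⟨Shrink.{0} G, inferInstance, Finite.of_equiv G (equivShrink.{0} G), ?_,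
      hG.of_mulEquiv Shrink.mulEquiv.symm, range_orderOf_mulEquiv Shrink.mulEquiv⟩
    have := Finite.of_equiv G (equivShrink.{0} G)
    exact Nat.card_pos
  | succ N ih =>
    obtain ⟨H, _, _, hlt, ⟨p, V, hp, hn, hne, hc, hx⟩, hspec⟩ := ih
    have hc' : ∀ x y : V, x * y = y * x := fun x y => Subtype.ext (hc x x.2 y y.2)
    have hx' : ∀ x : V, x ^ p = 1 := fun x => Subtype.ext (hx x x.2)
    have hf : Finite (V ⋊[MulAut.conjNormal] H) := Finite.of_equiv _ SemidirectProduct.equivProd.symm
    have hV : 2 ≤ Nat.card V := (Subgroup.one_lt_card_iff_ne_bot V).mpr hne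
    refine ⟨V ⋊[MulAut.conjNormal] H, inferInstance, hf, ?_,
      ⟨p, (SemidirectProduct.inl : V →* V ⋊[MulAut.conjNormal] H).range, hp, ?_, ?_, ?_, ?_⟩,
      (range_orderOf_semidirect V p hp hc' hx').trans hspec⟩
    · rw [SemidirectProduct.card]
      have : 2 * Nat.card H ≤ Nat.card V * Nat.card H := Nat.mul_le_mul_right _ hV
      omega
    · rw [SemidirectProduct.range_inl_eq_ker_rightHom]; infer_instance
    · rw [Ne, MonoidHom.range_eq_bot_iff]
      intro h
      apply hne
      rw [Subgroup.eq_bot_iff_forall]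
      intro v hv
      have := SemidirectProduct.inl_injective (φ := MulAut.conjNormal) (G := H)
        (a₁ := (⟨v, hv⟩ : V)) (a₂ := 1) (by rw [h]; rfl)
      exact congrArg Subtype.val this
    · rintro _ ⟨a, rfl⟩ _ ⟨b, rfl⟩
      rw [← map_mul, hc', map_mul]
    · rintro _ ⟨a, rfl⟩
      rw [← map_pow, hx', map_one]

end Cfsg.Agent.Isospectral
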