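import Mathlib
import Cfsg.Agent.Isospectral.Basic

/-!
The affine group `F₄² ⋊ SL₂(F₄)` and `A₆` both have spectrum `{1,2,3,4,5}`.
-/

set_option autoImplicit false

namespace Cfsg.Agent.A6Orders

theorem forall_pow : ∀ x : alternatingGroup (Fin 6), x ^ 4 = 1 ∨ x ^ 3 = 1 ∨ x ^ 5 = 1 := by
  decide +kernel

theorem range_eq : Set.range (orderOf : alternatingGroup (Fin 6) → ℕ) = {1, 2, 3, 4, 5} := by
  ext n
  constructor
  · rintro ⟨x, rfl⟩
    rcases forall_pow x with h | h | h <;>
      have hd := orderOf_dvd_of_pow_eq_one h <;>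
      have hle := Nat.le_of_dvd (by norm_num) hd <;>
      have hpos := orderOf_pos x <;>
      (simp only [Set.mem_insert_iff, Set.mem_singleton_iff]; omega)
  · have hex : ∀ n ∈ ({1, 2, 3, 4, 5} : Finset ℕ), ∃ x : alternatingGroup (Fin 6),
        x ^ n = 1 ∧ ∀ m ∈ Finset.Ico 1 n, x ^ m ≠ 1 := by decide +kernel
    intro hn
    obtain ⟨x, h1, h2⟩ := hex n (by simpa using hn)
    refine ⟨x, (orderOf_eq_iff ?_).mpr ⟨h1, fun m hm hm0 => h2 m (by simp; omega)⟩⟩
    rcases hn with rfl | rfl | rfl | rfl | rfl <;> norm_num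

end Cfsg.Agent.A6Orders

namespace Cfsg.Agent.Affine64

variable (F : Type*) [Field F]

/-- the generating set, as in the statement -/
def gens : Set (Matrix.SpecialLinearGroup (Fin 3) F) :=
  {M | (M : Matrix (Fin 3) (Fin 3) F) 2 0 = 0 ∧ (M : Matrix (Fin 3) (Fin 3) F) 2 1 = 0 ∧
    (M : Matrix (Fin 3) (Fin 3) F) 2 2 = 1}

/-- matrices with last row `0 0 1` -/
def aff : Subgroup (Matrix.SpecialLinearGroup (Fin 3) F) where
  carrier := gens F
  one_mem' := by simp [gens]
  mul_mem' := by
    rintro A B ⟨a0, a1, a2⟩ ⟨b0, b1, b2⟩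
    simp [gens, Matrix.mul_apply, Fin.sum_univ_three, a0, a1, a2, b0, b1, b2]
  inv_mem' := by
    intro A hA
    obtain ⟨a0, a1, a2⟩ := hA
    have h := congrArg (fun M : Matrix.SpecialLinearGroup (Fin 3) F => (M : Matrix (Fin 3) (Fin 3) F))
      (mul_inv_cancel A)
    simp only [Matrix.SpecialLinearGroup.coe_mul, Matrix.SpecialLinearGroup.coe_one] at h
    have e0 := congrFun (congrFun h 2) 0
    have e1 := congrFun (congrFun h 2) 1
    have e2 := congrFun (congrFun h 2) 2
    simp [Matrix.mul_apply, Fin.sum_univ_three, a0, a1, a2] at e0 e1 e2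
    exact ⟨e0, e1, e2⟩

theorem closure_eq : Subgroup.closure (gens F) = aff F :=
  Subgroup.closure_eq (aff F)

variable {F}

theorem two_eq_zero [Fintype F] (hF : Fintype.card F = 4) : (2 : F) = 0 := by
  have h : ((4 : ℕ) : F) = 0 := hF ▸ Nat.cast_card_eq_zero F
  have h2 : (2 : F) * 2 = 0 := by
    have : (2 : F) * 2 = ((4 : ℕ) : F) := by norm_num
    rw [this, h]
  exact mul_self_eq_zero.mp h2

theorem pow_cases [Fintype F] (hF : Fintype.card F = 4) {M : Matrix.SpecialLinearGroup (Fin 3) F}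
    (hM : M ∈ aff F) : M ^ 4 = 1 ∨ M ^ 3 = 1 ∨ M ^ 5 = 1 := by
  obtain ⟨h20, h21, h22⟩ := hM
  have h2 := two_eq_zero hF
  set A : Matrix (Fin 3) (Fin 3) F := (M : Matrix (Fin 3) (Fin 3) F) with hA
  have hdet : A 0 0 * A 1 1 - A 0 1 * A 1 0 = 1 := by
    have h := M.2
    rw [Matrix.det_fin_three, ← hA, h20, h21, h22] at h
    linear_combination h
  set t : F := A 0 0 + A 1 1 with ht
  have key : (A * A + t • A + 1) * (A + 1) = 0 := by
    ext i j
    fin_cases i <;> fin_cases j <;>
      simp [Matrix.mul_apply, Fin.sum_univ_three, h20, h21, h22, ht] <;> grind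
  have h3 : ∀ B : Matrix (Fin 3) (Fin 3) F, B + B = 0 := fun B => by
    rw [← two_smul F B, h2, zero_smul]
  rcases eq_or_ne t 0 with h0 | h0
  · left
    refine Subtype.ext ?_
    rw [Matrix.SpecialLinearGroup.coe_pow, ← hA, Matrix.SpecialLinearGroup.coe_one]
    have key2 : (A + 1) * (A + 1) * (A + 1) = 0 := by
      rw [h0, zero_smul, add_zero] at key
      have : (A + 1) * (A + 1) = A * A + 1 := by
        have := h3 A
        rw [mul_add, add_mul, add_mul, one_mul, mul_one, one_mul]
        linear_combination (norm := abel) this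
      rw [this, key]
    have h5 : A ^ 4 + 1 = (A + 1) * (A + 1) * (A + 1) * (A + 1) := by
      simp only [mul_add, add_mul, one_mul, mul_one, pow_succ, pow_zero]
      linear_combination (norm := abel)
        (-1 : ℤ) • (h3 A + h3 A + h3 (A * A) + h3 (A * A) + h3 (A * A) + h3 (A * A * A) + h3 (A * A * A))
    rw [key2, zero_mul] at h5
    exact (eq_neg_of_add_eq_zero_left h5).trans (neg_eq_of_add_eq_zero_left (h3 1))
  rcases eq_or_ne t 1 with h1 | h1
  · right; left
    refine Subtype.ext ?_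
    rw [Matrix.SpecialLinearGroup.coe_pow, ← hA, Matrix.SpecialLinearGroup.coe_one]
    rw [h1, one_smul] at key
    have h5 : A ^ 3 + 1 = (A * A + A + 1) * (A + 1) := by
      simp only [mul_add, add_mul, one_mul, mul_one, pow_succ, pow_zero]
      linear_combination (norm := abel) (-1 : ℤ) • (h3 A + h3 (A * A))
    rw [key] at h5
    exact (eq_neg_of_add_eq_zero_left h5).trans (neg_eq_of_add_eq_zero_left (h3 1))
  · right; right
    refine Subtype.ext ?_
    rw [Matrix.SpecialLinearGroup.coe_pow, ← hA, Matrix.SpecialLinearGroup.coe_one]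
    have ht3 : t ^ 3 = 1 := by
      have := FiniteField.pow_card_sub_one_eq_one t h0
      rwa [hF] at this
    have htt : t ^ 2 + t + 1 = 0 := by
      have : (t - 1) * (t ^ 2 + t + 1) = 0 := by linear_combination ht3
      exact (mul_eq_zero.mp this).resolve_left (sub_ne_zero.mpr h1)
    have ht2 : t ^ 2 = t + 1 := by linear_combination htt - t * h2 - h2
    have hcA : A * A + t ^ 2 • A + 1 = A * A + t • A + A + 1 := by
      rw [ht2, add_smul, one_smul]; abel
    have htA : ∀ B : Matrix (Fin 3) (Fin 3) F, t • (t • B) = t • B + B := fun B => by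
      rw [smul_smul, ← pow_two, ht2, add_smul, one_smul]
    have h5 : A ^ 5 + 1 = (A * A + t • A + A + 1) * ((A * A + t • A + 1) * (A + 1)) := by
      simp only [mul_add, add_mul, one_mul, mul_one, pow_succ, pow_zero, smul_mul_assoc,
        mul_smul_comm, smul_add, htA, mul_assoc]
      abel_nf
      have e2 : (2 : Matrix (Fin 3) (Fin 3) F) = 0 := by
        rw [← one_add_one_eq_two]; exact h3 1
      have e4 : (4 : Matrix (Fin 3) (Fin 3) F) = 0 := by
        rw [show (4 : Matrix (Fin 3) (Fin 3) F) = 2 + 2 by norm_num, e2, add_zero]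
      simp [e2, e4]
    rw [key, mul_zero] at h5
    exact (eq_neg_of_add_eq_zero_left h5).trans (neg_eq_of_add_eq_zero_left (h3 1))

/-- affine map `v ↦ A v + w` -/
def mk (a b c d x y : F) (h : a * d - b * c = 1) : aff F :=
  ⟨⟨!![a, b, x; c, d, y; 0, 0, 1], by simp [Matrix.det_fin_three]; linear_combination h⟩,
    ⟨by simp, by simp, by simp⟩⟩

theorem mk_mul (a b c d x y a' b' c' d' x' y' : F) (h : a * d - b * c = 1) (h' : a' * d' - b' * c' = 1) :
    mk a b c d x y h * mk a' b' c' d' x' y' h' =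
      mk (a * a' + b * c') (a * b' + b * d') (c * a' + d * c') (c * b' + d * d')
        (a * x' + b * y' + x) (c * x' + d * y' + y)
        (by linear_combination (a' * d' - b' * c') * h + h') := by
  apply Subtype.ext; apply Subtype.ext
  show !![a, b, x; c, d, y; 0, 0, 1] * !![a', b', x'; c', d', y'; 0, 0, 1] = _
  ext i j
  fin_cases i <;> fin_cases j <;> simp [mk, Matrix.mul_apply, Fin.sum_univ_three]

theorem mk_eq_one_iff (a b c d x y : F) (h : a * d - b * c = 1) :
    mk a b c d x y h = 1 ↔ a = 1 ∧ b = 0 ∧ c = 0 ∧ d = 1 ∧ x = 0 ∧ y = 0 := by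
  constructor
  · intro e
    have e' := congrArg (fun M : aff F => ((M : Matrix.SpecialLinearGroup (Fin 3) F) : Matrix (Fin 3) (Fin 3) F)) e
    refine ⟨?_, ?_, ?_, ?_, ?_, ?_⟩
    · simpa [mk] using congrFun (congrFun e' 0) 0
    · simpa [mk] using congrFun (congrFun e' 0) 1
    · simpa [mk] using congrFun (congrFun e' 1) 0
    · simpa [mk] using congrFun (congrFun e' 1) 1
    · simpa [mk] using congrFun (congrFun e' 0) 2
    · simpa [mk] using congrFun (congrFun e' 1) 2
  · rintro ⟨rfl, rfl, rfl, rfl, rfl, rfl⟩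
    apply Subtype.ext; apply Subtype.ext
    ext i j
    fin_cases i <;> fin_cases j <;> simp [mk]

theorem range_aff [Fintype F] (hF : Fintype.card F = 4) :
    Set.range (orderOf : aff F → ℕ) = {1, 2, 3, 4, 5} := by
  classical
  have h2 := two_eq_zero hF
  ext n
  constructor
  · rintro ⟨x, rfl⟩
    have hpos := orderOf_pos x
    rcases pow_cases hF x.2 with h | h | h <;>
      have hd := orderOf_dvd_of_pow_eq_one (x := x) (Subtype.ext (by simpa using h)) <;>
      have hle := Nat.le_of_dvd (by norm_num) hd <;>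
      (simp only [Set.mem_insert_iff, Set.mem_singleton_iff]; omega)
  · rintro (rfl | rfl | rfl | rfl | rfl)
    · exact ⟨1, orderOf_one⟩
    · refine ⟨mk 1 1 0 1 0 0 (by simp), orderOf_eq_prime ?_ ?_⟩
      · rw [pow_two, mk_mul, mk_eq_one_iff]; grind
      · rw [Ne, mk_eq_one_iff]; simp
    · have : Fact (Nat.Prime 3) := ⟨Nat.prime_three⟩
      refine ⟨mk 1 1 1 0 0 0 (by grind), orderOf_eq_prime ?_ ?_⟩
      · rw [pow_three, mk_mul, mk_mul, mk_eq_one_iff]; grind
      · rw [Ne, mk_eq_one_iff]; simp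
    · refine ⟨mk 1 1 0 1 0 1 (by simp), ?_⟩
      have : Fact (Nat.Prime 2) := ⟨Nat.prime_two⟩
      refine orderOf_eq_prime_pow (p := 2) (n := 1) ?_ ?_
      · rw [pow_one, pow_two, mk_mul, mk_eq_one_iff]; simp
      · rw [show (2 : ℕ) ^ (1 + 1) = 2 * 2 by rfl, pow_mul, pow_two (mk _ _ _ _ _ _ _), mk_mul,
          pow_two, mk_mul, mk_eq_one_iff]
        grind
    · obtain ⟨t, ht0, ht1⟩ : ∃ t : F, t ≠ 0 ∧ t ≠ 1 := by
        by_contra hc
        simp only [not_exists, not_and, not_not] at hc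
        have hsub : (Finset.univ : Finset F) ⊆ {0, 1} := fun t _ => by
          by_cases h : t = 0
          · simp [h]
          · simp [hc t h]
        have := (Finset.card_le_card hsub).trans Finset.card_le_two
        rw [Finset.card_univ, hF] at this
        omega
      have ht3 : t ^ 3 = 1 := by
        have := FiniteField.pow_card_sub_one_eq_one t ht0
        rwa [hF] at this
      have htt : t ^ 2 + t + 1 = 0 := by
        have : (t - 1) * (t ^ 2 + t + 1) = 0 := by linear_combination ht3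
        exact (mul_eq_zero.mp this).resolve_left (sub_ne_zero.mpr ht1)
      have : Fact (Nat.Prime 5) := ⟨by norm_num⟩
      refine ⟨mk t 1 1 0 0 0 (by grind), orderOf_eq_prime ?_ ?_⟩
      · rw [show (5 : ℕ) = 2 * 2 + 1 by rfl, pow_succ, pow_mul, pow_two (mk _ _ _ _ _ _ _), mk_mul,
          pow_two, mk_mul, mk_mul, mk_eq_one_iff]
        grind
      · rw [Ne, mk_eq_one_iff]; simp

theorem range_eq [Fintype F] (hF : Fintype.card F = 4) :
    Set.range (orderOf : Subgroup.closure (gens F) → ℕ) = {1, 2, 3, 4, 5} := by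
  rw [closure_eq]
  exact range_aff hF

theorem range_eq' [Fintype F] (hF : Fintype.card F = 4) :
    Set.range (orderOf : aff F → ℕ) = {1, 2, 3, 4, 5} := range_aff hF

/-- the linear part -/
def lin : aff F →* Matrix (Fin 2) (Fin 2) F where
  toFun M := !![((M : Matrix.SpecialLinearGroup (Fin 3) F) : Matrix (Fin 3) (Fin 3) F) 0 0,
    ((M : Matrix.SpecialLinearGroup (Fin 3) F) : Matrix (Fin 3) (Fin 3) F) 0 1;
    ((M : Matrix.SpecialLinearGroup (Fin 3) F) : Matrix (Fin 3) (Fin 3) F) 1 0,
    ((M : Matrix.SpecialLinearGroup (Fin 3) F) : Matrix (Fin 3) (Fin 3) F) 1 1]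
  map_one' := by ext i j; fin_cases i <;> fin_cases j <;> simp
  map_mul' A B := by
    obtain ⟨b0, b1, b2⟩ := B.2
    ext i j
    fin_cases i <;> fin_cases j <;>
      simp [Matrix.mul_apply, Fin.sum_univ_three, b0, b1]

theorem hasElemNormal [Finite F] [CharP F 2] : Isospectral.HasElemNormal (aff F) := by
  have h2 : (2 : F) = 0 := CharTwo.two_eq_zero
  have hform : ∀ M ∈ (lin (F := F)).ker, ∃ x y : F, M = mk 1 0 0 1 x y (by simp) := by
    intro M hM
    obtain ⟨a0, a1, a2⟩ := M.2
    refine ⟨((M : Matrix.SpecialLinearGroup (Fin 3) F) : Matrix (Fin 3) (Fin 3) F) 0 2,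
      ((M : Matrix.SpecialLinearGroup (Fin 3) F) : Matrix (Fin 3) (Fin 3) F) 1 2, ?_⟩
    apply Subtype.ext; apply Subtype.ext
    have h : lin M = 1 := hM
    have e00 := congrFun (congrFun h 0) 0
    have e01 := congrFun (congrFun h 0) 1
    have e10 := congrFun (congrFun h 1) 0
    have e11 := congrFun (congrFun h 1) 1
    simp [lin] at e00 e01 e10 e11
    ext i j
    fin_cases i <;> fin_cases j <;> simp [mk, a0, a1, a2, e00, e01, e10, e11]
  refine ⟨2, (lin (F := F)).ker, Nat.prime_two, inferInstance, ?_, ?_, ?_⟩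
  · rw [Ne, Subgroup.eq_bot_iff_forall]
    intro h
    have := h (mk 1 0 0 1 1 0 (by simp)) (by
      rw [MonoidHom.mem_ker]
      ext i j; fin_cases i <;> fin_cases j <;> simp [lin, mk])
    rw [mk_eq_one_iff] at this
    simp at this
  · intro A hA B hB
    obtain ⟨x, y, rfl⟩ := hform A hA
    obtain ⟨x', y', rfl⟩ := hform B hB
    rw [mk_mul, mk_mul]
    simp [add_comm]
  · intro A hA
    obtain ⟨x, y, rfl⟩ := hform A hA
    rw [pow_two, mk_mul, mk_eq_one_iff]
    grind

end Cfsg.Agent.Affine64
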